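/-
A maximal commuting set of 22 transpositions in the explicit model of type M(22) and its centralizer `K`,
an elementary abelian group of order 1024.
-/
import Mathlib
import Cfsg.Agent.Lib.Fischer.M22.Rows.Words
import Cfsg.Agent.Lib.Fischer.M22.Rows.SylTwoData

set_option autoImplicit false
set_option maxRecDepth 100000

namespace Cfsg.Agent.Lib.Fischer.M22.Rows.SylTwo

open Cfsg Cfsg.Agent.Lib.Compute.ToddCoxeterCore Cfsg.Agent.Lib.Compute.TCChain
open Cfsg.Agent.Lib.Fischer.M22.Explicit Cfsg.Agent.Lib.Fischer.M22.Rows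

/-! ### Readers -/

/-- The label of the `i`-th transposition. -/
def Om (i : ℕ) : ℕ := OmL.getD i (nat_lit 0)

/-- The `k`-th permutation on the index `i`. -/
noncomputable def sE (k i : ℕ) : ℕ :=
  Nat.land (Nat.shiftRight SLT (Nat.mul (Nat.add (Nat.mul k (nat_lit 22)) i) (nat_lit 5))) (nat_lit 31)

/-- The multiplication table. -/
noncomputable def mt (k l : ℕ) : ℕ :=
  Nat.land (Nat.shiftRight MT (Nat.mul (Nat.add (Nat.mul k (nat_lit 128)) l) (nat_lit 7))) (nat_lit 127)

/-- The code of the `i`-th transposition. -/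
noncomputable def DV (i : ℕ) : ℕ :=
  Nat.land (Nat.shiftRight DVT (Nat.mul i (nat_lit 10))) (nat_lit 1023)

/-- The label of a code. -/
noncomputable def Lb (v : ℕ) : ℕ :=
  Nat.land (Nat.shiftRight LBT (Nat.mul v (nat_lit 12))) (nat_lit 4095)

/-- The code of a label. -/
noncomputable def Cd (q : ℕ) : ℕ :=
  Nat.land (Nat.shiftRight CDT (Nat.mul q (nat_lit 11))) (nat_lit 2047)

/-- The words of the fixed elements. -/
def Yw : List (List ℕ) := OmL.map (fun p => [p + 16])

theorem Om_lt (i : ℕ) : Om i < NN := by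
  have h : OmL.all (fun p => blt p (nat_lit 3510)) = true := by decide +kernel
  unfold Om
  by_cases hi : i < OmL.length
  · rw [List.getD_eq_getElem _ _ hi]
    exact blt_iff.1 (List.all_eq_true.1 h _ (List.getElem_mem hi))
  · rw [List.getD_eq_default _ _ (by omega)]
    show 0 < 3510
    norm_num

/-- The label as an element of `Fin NN`. -/
def OmF (i : ℕ) : Fin NN := ⟨Om i, Om_lt i⟩

theorem chkY_ok : chkY (nat_lit 22) Yw YT = true := by decide +kernel

/-- The `i`-th transposition. -/
noncomputable def d (i : ℕ) : G0 := Yel Yw i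

/-- The value of `d i` on labels. -/
noncomputable def dv (i j : ℕ) : ℕ := yv (nat_lit 22) YT i j

theorem d_val (i : ℕ) (j : Fin NN) : ((φ (d i) j : Fin NN) : ℕ) = dv i j := Yel_val chkY_ok i j

theorem Yw_getD {i : ℕ} (hi : i < 22) : Yw.getD i [] = [Om i + 16] := by
  have h : ∀ i ∈ List.range 22, Yw.getD i [] = [OmL.getD i 0 + 16] := by decide +kernel
  exact h i (List.mem_range.2 hi)

theorem d_eq {i : ℕ} (hi : i < 22) : d i = t (OmF i) := by
  unfold d Yel
  rw [Yw_getD hi]
  simp only [wordEl_cons, wordEl_nil, one_mul]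
  unfold aG
  rw [if_neg (by omega), show Om i + 16 - 16 = Om i by omega]
  exact tn_val (OmF i)

theorem d_big {i : ℕ} (hi : 22 ≤ i) : d i = 1 := by
  unfold d Yel
  have : Yw.getD i [] = [] := List.getD_eq_default _ _ (by
    have : Yw.length = 22 := by decide +kernel
    omega)
  rw [this]
  rfl

theorem d_sq {i : ℕ} (hi : i < 22) : d i * d i = 1 := by
  rw [d_eq hi]; exact t_sq _

theorem comm_check : allFrom (fun a => Nat.beq (dv (Nat.div a (nat_lit 22)) (Om (Nat.mod a (nat_lit 22))))
    (Om (Nat.mod a (nat_lit 22)))) (nat_lit 484) (nat_lit 0) = true := by decide +kernel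

theorem comm_dd {i j : ℕ} (hi : i < 22) (hj : j < 22) : Commute (d i) (d j) := by
  rw [d_eq hi, d_eq hj, comm_t_iff]
  apply Fin.ext
  have h := beq_iff.1 (allFrom_spec comm_check (i * 22 + j) (Nat.zero_le _) (by show i * 22 + j < 0 + 484; omega))
  have h1 : (i * 22 + j) / 22 = i := by omega
  have h2 : (i * 22 + j) % 22 = j := by omega
  have h3 : dv i (Om j) = Om j := by
    have h4 : dv ((i * 22 + j) / 22) (Om ((i * 22 + j) % 22)) = Om ((i * 22 + j) % 22) := h
    rwa [h1, h2] at h4
  rw [← d_eq hi, d_val]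
  exact h3

/-! ### The centralizer -/

/-- The centralizer of the 22 transpositions. -/
abbrev K : Subgroup G0 := CY Yw

theorem mem_K {g : G0} : g ∈ K ↔ ∀ i, i < 22 → Commute g (d i) := by
  constructor
  · intro h i _
    exact CY_comm h i
  · intro h
    show g ∈ Subgroup.centralizer (Set.range (Yel Yw))
    rw [Subgroup.mem_centralizer_iff]
    rintro _ ⟨k, rfl⟩
    by_cases hk : k < 22
    · exact (h k hk).symm.eq
    · have : Yel Yw k = 1 := d_big (by omega)
      rw [this]
      simp

theorem d_mem {i : ℕ} (hi : i < 22) : d i ∈ K := mem_K.2 fun _ hj => comm_dd hi hj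

/-- The label `58` commutes with none of the transpositions. -/
def q0 : Fin NN := ⟨58, by decide +kernel⟩

/-- Tests. -/
def negs : List (List ℕ × List ℕ) := (List.range 22).map (fun k => ([k + 1], []))

theorem hG : ∀ k ∈ List.range 9, run (envV (nat_lit 22) YT q0) (GwL.getD k []) q0 = lab k := by decide +kernel

theorem hN : negs.any (agr (nat_lit 22) YT q0) = false := by decide +kernel

theorem hAll : allFrom (refQ (nat_lit 22) YT MK [] negs) (nat_lit 3510) (nat_lit 0) = true := by decide +kernel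

theorem K_inj {g g' : G0} (hg : g ∈ K) (hg' : g' ∈ K) (he : φ g q0 = φ g' q0) : g = g' :=
  CY_inj chkY_ok q0 GwL hG hg hg' he

theorem K_mask {g : G0} (hg : g ∈ K) : tb MK (φ g q0) = true :=
  CY_mem chkY_ok q0 [] negs rfl hN MK hAll hg

/-! ### Labels and codes -/

theorem lb_check : allFrom (fun v => Bool.rec (motive := fun _ => Bool) false (Nat.beq (Cd (Lb v)) v) (blt (Lb v) (nat_lit 3510)))
    (nat_lit 1024) (nat_lit 0) = true := by decide +kernel

theorem Lb_lt {v : ℕ} (hv : v < 1024) : Lb v < 3510 := by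
  have h := allFrom_spec lb_check v (Nat.zero_le _) (by show v < 0 + 1024; omega)
  cases h1 : blt (Lb v) (nat_lit 3510) with
  | true => exact blt_iff.1 h1
  | false => rw [h1] at h; cases h

theorem Cd_Lb {v : ℕ} (hv : v < 1024) : Cd (Lb v) = v := by
  have h := allFrom_spec lb_check v (Nat.zero_le _) (by show v < 0 + 1024; omega)
  cases h1 : blt (Lb v) (nat_lit 3510) with
  | true => rw [h1] at h; exact beq_iff.1 h
  | false => rw [h1] at h; cases h

theorem Lb_inj {u v : ℕ} (hu : u < 1024) (hv : v < 1024) (h : Lb u = Lb v) : u = v := by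
  rw [← Cd_Lb hu, ← Cd_Lb hv, h]

theorem mask_check : allFrom (fun q => Bool.rec (motive := fun _ => Bool) true
    (Bool.rec (motive := fun _ => Bool) false (Nat.beq (Lb (Cd q)) q) (blt (Cd q) (nat_lit 1024))) (tb MK q))
    (nat_lit 3510) (nat_lit 0) = true := by decide +kernel

theorem mask_spec {q : ℕ} (hq : q < 3510) (h : tb MK q = true) : Cd q < 1024 ∧ Lb (Cd q) = q := by
  have h1 := allFrom_spec mask_check q (Nat.zero_le _) (by show q < 0 + 3510; omega)
  rw [h] at h1
  cases h2 : blt (Cd q) (nat_lit 1024) with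
  | true =>
    rw [h2] at h1
    exact ⟨blt_iff.1 h2, beq_iff.1 h1⟩
  | false => rw [h2] at h1; cases h1

theorem Lb_zero : Lb 0 = 58 := by decide +kernel

/-- The action of the transpositions on the codes. -/
theorem act_check : allFrom (fun a => Bool.rec (motive := fun _ => Bool) false
    (Nat.beq (dv (Nat.div a (nat_lit 1024)) (Lb (Nat.mod a (nat_lit 1024))))
      (Lb (Nat.xor (Nat.mod a (nat_lit 1024)) (DV (Nat.div a (nat_lit 1024))))))
    (blt (DV (Nat.div a (nat_lit 1024))) (nat_lit 1024)))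
    (nat_lit 22528) (nat_lit 0) = true := by decide +kernel

theorem DV_lt {i : ℕ} (hi : i < 22) : DV i < 1024 := by
  have h := allFrom_spec act_check (i * 1024) (Nat.zero_le _) (by show i * 1024 < 0 + 22528; omega)
  have h1 : (i * 1024) / 1024 = i := by omega
  have h2 : blt (DV (Nat.div (i * 1024) (nat_lit 1024))) (nat_lit 1024) = true := by
    cases h3 : blt (DV (Nat.div (i * 1024) (nat_lit 1024))) (nat_lit 1024) with
    | true => rfl
    | false => rw [h3] at h; cases h
  have h4 : blt (DV ((i * 1024) / 1024)) 1024 = true := h2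
  rw [h1] at h4
  exact blt_iff.1 h4

theorem act_spec {i v : ℕ} (hi : i < 22) (hv : v < 1024) : dv i (Lb v) = Lb (Nat.xor v (DV i)) := by
  have h := allFrom_spec act_check (i * 1024 + v) (Nat.zero_le _) (by show i * 1024 + v < 0 + 22528; omega)
  have h1 : (i * 1024 + v) / 1024 = i := by omega
  have h2 : (i * 1024 + v) % 1024 = v := by omega
  cases h3 : blt (DV (Nat.div (i * 1024 + v) (nat_lit 1024))) (nat_lit 1024) with
  | true =>
    rw [h3] at h
    have h4 : dv ((i * 1024 + v) / 1024) (Lb ((i * 1024 + v) % 1024)) =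
        Lb (Nat.xor ((i * 1024 + v) % 1024) (DV ((i * 1024 + v) / 1024))) := beq_iff.1 h
    rwa [h1, h2] at h4
  | false => rw [h3] at h; cases h

theorem xor_lt {a b : ℕ} (ha : a < 1024) (hb : b < 1024) : Nat.xor a b < 1024 :=
  Nat.xor_lt_two_pow (n := 10) ha hb

/-- The code after a word. -/
noncomputable def cw (u : ℕ) (w : List ℕ) : ℕ := w.foldl (fun a i => Nat.xor a (DV i)) u

theorem cw_lt {u : ℕ} (hu : u < 1024) {w : List ℕ} (hw : ∀ x ∈ w, x < 22) : cw u w < 1024 := by
  induction w generalizing u with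
  | nil => exact hu
  | cons x r ih =>
    show cw (Nat.xor u (DV x)) r < 1024
    exact ih (xor_lt hu (DV_lt (hw x (by simp)))) (fun y hy => hw y (by simp [hy]))

/-- The action of a word of transpositions on the labels of the codes. -/
theorem word_val {w : List ℕ} (hw : ∀ x ∈ w, x < 22) {u : ℕ} (hu : u < 1024) (i : Fin NN) (hi : (i : ℕ) = Lb u) :
    ((φ (wordEl d w) i : Fin NN) : ℕ) = Lb (cw u w) := by
  induction w generalizing u i with
  | nil => simpa [cw] using hi
  | cons x r ih =>
    rw [wordEl_cons, map_mul, Equiv.Perm.coe_mul, Function.comp_apply]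
    have h1 : ((φ (d x) i : Fin NN) : ℕ) = Lb (Nat.xor u (DV x)) := by
      rw [d_val, hi]
      exact act_spec (hw x (by simp)) hu
    exact ih (fun y hy => hw y (by simp [hy])) (xor_lt hu (DV_lt (hw x (by simp)))) _ h1

/-- The indices of the basis elements of a code. -/
noncomputable def mkL (v : ℕ) : List ℕ :=
  ((List.range (nat_lit 10)).filter (fun j => tb v j)).map (fun j => bIL.getD j (nat_lit 0))

/-- The element of a code. -/
noncomputable def mk (v : ℕ) : G0 := wordEl d (mkL v)

theorem mk_check : allFrom (fun v => Bool.rec (motive := fun _ => Bool) false (Nat.beq (cw (nat_lit 0) (mkL v)) v)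
    ((mkL v).all (fun x => blt x (nat_lit 22)))) (nat_lit 1024) (nat_lit 0) = true := by decide +kernel

theorem mkL_lt {v : ℕ} (hv : v < 1024) : ∀ x ∈ mkL v, x < 22 := by
  have h := allFrom_spec mk_check v (Nat.zero_le _) (by show v < 0 + 1024; omega)
  cases h1 : (mkL v).all (fun x => blt x (nat_lit 22)) with
  | true => exact fun x hx => blt_iff.1 (List.all_eq_true.1 h1 x hx)
  | false => rw [h1] at h; cases h

theorem cw_mkL {v : ℕ} (hv : v < 1024) : cw 0 (mkL v) = v := by
  have h := allFrom_spec mk_check v (Nat.zero_le _) (by show v < 0 + 1024; omega)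
  cases h1 : (mkL v).all (fun x => blt x (nat_lit 22)) with
  | true => rw [h1] at h; exact beq_iff.1 h
  | false => rw [h1] at h; cases h

theorem q0_val : (q0 : ℕ) = Lb 0 := by rw [Lb_zero]; rfl

theorem mk_val {v : ℕ} (hv : v < 1024) : ((φ (mk v) q0 : Fin NN) : ℕ) = Lb v := by
  have h := word_val (mkL_lt hv) (u := 0) (by norm_num) q0 q0_val
  rw [cw_mkL hv] at h
  exact h

theorem word_mem_K {w : List ℕ} (hw : ∀ x ∈ w, x < 22) : wordEl d w ∈ K := by
  induction w with
  | nil => exact K.one_mem
  | cons x r ih =>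
    rw [wordEl_cons]
    exact K.mul_mem (ih (fun y hy => hw y (by simp [hy]))) (d_mem (hw x (by simp)))

theorem mk_mem {v : ℕ} (hv : v < 1024) : mk v ∈ K := word_mem_K (mkL_lt hv)

/-- The code of an element of `K`. -/
noncomputable def cde (g : G0) : ℕ := Cd (φ g q0)

theorem cde_lt {g : G0} (hg : g ∈ K) : cde g < 1024 := (mask_spec (Fin.isLt _) (K_mask hg)).1

theorem eq_mk {g : G0} (hg : g ∈ K) : g = mk (cde g) := by
  apply K_inj hg (mk_mem (cde_lt hg))
  apply Fin.ext
  rw [mk_val (cde_lt hg)]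
  exact (mask_spec (Fin.isLt _) (K_mask hg)).2.symm

theorem cde_mk {v : ℕ} (hv : v < 1024) : cde (mk v) = v := by
  show Cd ((φ (mk v) q0 : Fin NN) : ℕ) = v
  rw [mk_val hv, Cd_Lb hv]

theorem cde_inj {g g' : G0} (hg : g ∈ K) (hg' : g' ∈ K) (h : cde g = cde g') : g = g' := by
  rw [eq_mk hg, eq_mk hg', h]

theorem card_K : Nat.card K = 1024 := by
  have hbij : Function.Bijective (fun v : Fin 1024 => (⟨mk v, mk_mem v.2⟩ : K)) := by
    constructor
    · intro u v huv
      have h1 : mk u = mk v := congrArg Subtype.val huv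
      have h2 := congrArg cde h1
      rw [cde_mk u.2, cde_mk v.2] at h2
      exact Fin.ext h2
    · rintro ⟨g, hg⟩
      exact ⟨⟨cde g, cde_lt hg⟩, Subtype.ext (eq_mk hg).symm⟩
  rw [← Nat.card_eq_of_bijective _ hbij]
  simp

/-- `K` is commutative. -/
theorem K_comm {g g' : G0} (hg : g ∈ K) (hg' : g' ∈ K) : g * g' = g' * g := by
  rw [eq_mk hg']
  have hw : ∀ (w : List ℕ), (∀ x ∈ w, x < 22) → Commute g (wordEl d w) := by
    intro w hw
    induction w with
    | nil => simp
    | cons x r ih =>
      rw [wordEl_cons]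
      exact (ih (fun y hy => hw y (by simp [hy]))).mul_right (mem_K.1 hg x (hw x (by simp)))
  exact hw _ (mkL_lt (cde_lt hg'))

theorem cw_xor (u : ℕ) (w : List ℕ) : cw u w = Nat.xor u (cw 0 w) := by
  induction w generalizing u with
  | nil => simp [cw]
  | cons x r ih =>
    show cw (Nat.xor u (DV x)) r = Nat.xor u (cw (Nat.xor 0 (DV x)) r)
    rw [ih (Nat.xor u (DV x)), ih (Nat.xor 0 (DV x))]
    have h0 : Nat.xor 0 (DV x) = DV x := Nat.zero_xor _
    rw [h0]
    exact Nat.xor_assoc _ _ _

/-- `K` has exponent two. -/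
theorem K_sq {g : G0} (hg : g ∈ K) : g ^ 2 = 1 := by
  rw [pow_two]
  apply K_inj (K.mul_mem hg hg) K.one_mem
  rw [map_mul, Equiv.Perm.coe_mul, Function.comp_apply, map_one, Equiv.Perm.one_apply]
  apply Fin.ext
  set v := cde g with hv
  have hvlt : v < 1024 := cde_lt hg
  have h1 : ((φ g q0 : Fin NN) : ℕ) = Lb v := (mask_spec (Fin.isLt _) (K_mask hg)).2.symm
  have h2 := word_val (mkL_lt hvlt) hvlt (φ g q0) h1
  have h3 : wordEl d (mkL v) = g := (eq_mk hg).symm
  rw [h3, cw_xor, cw_mkL hvlt] at h2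
  rw [h2]
  have h4 : Nat.xor v v = 0 := Nat.xor_self v
  rw [h4, Lb_zero]
  rfl

/-- `K` is generated by the transpositions. -/
theorem K_le_closure (S : Set G0) (hS : ∀ i, i < 22 → d i ∈ S) : K ≤ Subgroup.closure S := by
  intro g hg
  rw [eq_mk hg]
  have hw : ∀ (w : List ℕ), (∀ x ∈ w, x < 22) → wordEl d w ∈ Subgroup.closure S := by
    intro w hw
    induction w with
    | nil => exact Subgroup.one_mem _
    | cons x r ih =>
      rw [wordEl_cons]
      exact Subgroup.mul_mem _ (ih (fun y hy => hw y (by simp [hy])))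
        (Subgroup.subset_closure (hS x (hw x (by simp))))
  exact hw _ (mkL_lt (cde_lt hg))

/-- Elements of `K` fix the labels of the 22 transpositions, and conversely. -/
theorem mem_K_iff_fix {g : G0} : g ∈ K ↔ ∀ i, i < 22 → φ g (OmF i) = OmF i := by
  rw [mem_K]
  constructor
  · intro h i hi
    have := h i hi
    rw [d_eq hi] at this
    exact (comm_t_iff' g _).1 this
  · intro h i hi
    rw [d_eq hi]
    exact (comm_t_iff' g _).2 (h i hi)

end Cfsg.Agent.Lib.Fischer.M22.Rows.SylTwo
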