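/-
A Sylow 2-subgroup `T0` of the explicit model of type M(22): `T0` has order `2^17`, contains exactly 22 transpositions, generating
the group `K` of order `2^10`, and `K` is the only elementary abelian subgroup of `T0` of order at least `2^10`.
-/
import Mathlib
import Cfsg.Agent.Lib.Fischer.M22.Rows.SylTwoK

set_option autoImplicit false
set_option maxRecDepth 100000

namespace Cfsg.Agent.Lib.Fischer.M22.Rows.SylTwo

open Cfsg Cfsg.Agent.Lib.Compute.ToddCoxeterCore Cfsg.Agent.Lib.Compute.TCChain
open Cfsg.Agent.Lib.Fischer.M22.Explicit Cfsg.Agent.Lib.Fischer.M22.Rows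

/-! ### The permutations -/

theorem s_lt_check : (List.range 128).all (fun k => (List.range 22).all (fun i => blt (sE k i) (nat_lit 22))) = true := by
  decide +kernel

theorem sE_lt {k i : ℕ} (hk : k < 128) (hi : i < 22) : sE k i < 22 :=
  blt_iff.1 (List.all_eq_true.1 (List.all_eq_true.1 s_lt_check k (List.mem_range.2 hk)) i (List.mem_range.2 hi))

theorem mt_check : (List.range 128).all (fun k => (List.range 128).all (fun l =>
    Bool.rec (motive := fun _ => Bool) false
      ((List.range 22).all (fun i => Nat.beq (sE (mt k l) i) (sE k (sE l i))))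
      (blt (mt k l) (nat_lit 128)))) = true := by
  decide +kernel

theorem mt_spec {k l : ℕ} (hk : k < 128) (hl : l < 128) :
    mt k l < 128 ∧ ∀ i, i < 22 → sE (mt k l) i = sE k (sE l i) := by
  have h := List.all_eq_true.1 (List.all_eq_true.1 mt_check k (List.mem_range.2 hk)) l (List.mem_range.2 hl)
  cases h1 : blt (mt k l) (nat_lit 128) with
  | true =>
    rw [h1] at h
    exact ⟨blt_iff.1 h1, fun i hi => beq_iff.1 (List.all_eq_true.1 h i (List.mem_range.2 hi))⟩
  | false => rw [h1] at h; cases h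

theorem s_zero : ∀ i ∈ List.range 22, sE 0 i = i := by decide +kernel

theorem Om_inj_check : (List.range 22).all (fun a => (List.range 22).all (fun b =>
    Bool.rec (motive := fun _ => Bool) true (Nat.beq a b) (Nat.beq (Om a) (Om b)))) = true := by
  decide +kernel

theorem Om_inj {a b : ℕ} (ha : a < 22) (hb : b < 22) (h : Om a = Om b) : a = b := by
  have h1 := List.all_eq_true.1 (List.all_eq_true.1 Om_inj_check a (List.mem_range.2 ha)) b (List.mem_range.2 hb)
  rw [h, Nat.beq_refl] at h1
  exact beq_iff.1 h1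

theorem dist_check : (List.range 128).all (fun k => (List.range 128).all (fun l =>
    Bool.rec (motive := fun _ => Bool)
      ((List.range 22).any (fun i => Bool.rec (motive := fun _ => Bool) true false (Nat.beq (sE k i) (sE l i))))
      true (Nat.beq k l))) = true := by
  decide +kernel

theorem s_dist {k l : ℕ} (hk : k < 128) (hl : l < 128) (h : ∀ i, i < 22 → sE k i = sE l i) : k = l := by
  by_contra hne
  have h1 := List.all_eq_true.1 (List.all_eq_true.1 dist_check k (List.mem_range.2 hk)) l (List.mem_range.2 hl)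
  have h2 : Nat.beq k l = false := by
    cases h3 : Nat.beq k l with
    | false => rfl
    | true => exact absurd (beq_iff.1 h3) hne
  rw [h2] at h1
  obtain ⟨i, hi, h3⟩ := List.any_eq_true.1 h1
  rw [h i (List.mem_range.1 hi), Nat.beq_refl] at h3
  cases h3

/-! ### The group -/

/-- `g` permutes the 22 labels by the `k`-th permutation. -/
def IsPat (g : G0) (k : ℕ) : Prop := ∀ i, i < 22 → ((φ g (OmF i) : Fin NN) : ℕ) = Om (sE k i)

theorem pat_val {g : G0} {k : ℕ} (h : IsPat g k) {i : ℕ} (hi : i < 22) : φ g (OmF i) = OmF (sE k i) :=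
  Fin.ext (h i hi)

theorem pat_mul {g g' : G0} {k l : ℕ} (hk : k < 128) (hl : l < 128) (h : IsPat g k) (h' : IsPat g' l) :
    IsPat (g * g') (mt k l) := by
  intro i hi
  rw [map_mul, Equiv.Perm.coe_mul, Function.comp_apply, pat_val h' hi, (mt_spec hk hl).2 i hi]
  exact h _ (sE_lt hl hi)

theorem pat_one : IsPat 1 0 := by
  intro i hi
  rw [s_zero i (List.mem_range.2 hi), map_one]
  rfl

/-- The Sylow 2-subgroup. -/
def T0 : Subgroup G0 where
  carrier := {g | ∃ k, k < 128 ∧ IsPat g k}
  mul_mem' := by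
    rintro g g' ⟨k, hk, h⟩ ⟨l, hl, h'⟩
    exact ⟨mt k l, (mt_spec hk hl).1, pat_mul hk hl h h'⟩
  one_mem' := ⟨0, by norm_num, pat_one⟩
  inv_mem' := by
    intro g hg
    have hpow : ∀ n : ℕ, ∃ k, k < 128 ∧ IsPat (g ^ n) k := by
      intro n
      induction n with
      | zero => exact ⟨0, by norm_num, by simpa using pat_one⟩
      | succ n ih =>
        obtain ⟨k, hk, h⟩ := ih
        obtain ⟨l, hl, h'⟩ := hg
        rw [pow_succ]
        exact ⟨mt k l, (mt_spec hk hl).1, pat_mul hk hl h h'⟩
    have h1 : g⁻¹ = g ^ (orderOf g - 1) := by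
      apply inv_eq_of_mul_eq_one_left
      rw [← pow_succ, Nat.sub_add_cancel (orderOf_pos g), pow_orderOf_eq_one]
    rw [h1]
    exact hpow _

theorem mem_T0 {g : G0} : g ∈ T0 ↔ ∃ k, k < 128 ∧ IsPat g k := Iff.rfl

theorem pat_unique {g : G0} {k l : ℕ} (hk : k < 128) (hl : l < 128) (h : IsPat g k) (h' : IsPat g l) : k = l := by
  apply s_dist hk hl
  intro i hi
  apply Om_inj (sE_lt hk hi) (sE_lt hl hi)
  rw [← h i hi, ← h' i hi]

theorem pat_zero_iff {g : G0} : IsPat g 0 ↔ g ∈ K := by
  rw [mem_K_iff_fix]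
  constructor
  · intro h i hi
    have := pat_val h hi
    rwa [s_zero i (List.mem_range.2 hi)] at this
  · intro h i hi
    rw [h i hi, s_zero i (List.mem_range.2 hi)]
    rfl

theorem K_le_T0 : K ≤ T0 := fun _ hg => ⟨0, by norm_num, pat_zero_iff.2 hg⟩

/-! ### Lifts -/

theorem lift_check : (List.range 128).all (fun k => Bool.rec (motive := fun _ => Bool) false
    ((List.range 22).all (fun i => Nat.beq (run aV (wSL.getD k []) (Om i)) (Om (sE k i))))
    (wOK (wSL.getD k []))) = true := by
  decide +kernel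

/-- The lift of the `k`-th permutation. -/
noncomputable def gk (k : ℕ) : G0 := wE (wSL.getD k [])

theorem gk_pat {k : ℕ} (hk : k < 128) : IsPat (gk k) k := by
  have h := List.all_eq_true.1 lift_check k (List.mem_range.2 hk)
  cases h1 : wOK (wSL.getD k []) with
  | true =>
    rw [h1] at h
    intro i hi
    have h2 := beq_iff.1 (List.all_eq_true.1 h i (List.mem_range.2 hi))
    rw [← h2]
    exact wE_val h1 (OmF i)
  | false => rw [h1] at h; cases h

theorem pat_diff {g g' : G0} {k : ℕ} (h : IsPat g k) (h' : IsPat g' k) : g⁻¹ * g' ∈ K := by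
  rw [mem_K_iff_fix]
  intro i hi
  rw [map_mul, Equiv.Perm.coe_mul, Function.comp_apply, pat_val h' hi, ← pat_val h hi, map_inv, pinv]

theorem pat_mul_K {g e : G0} {k : ℕ} (h : IsPat g k) (he : e ∈ K) : IsPat (g * e) k := by
  intro i hi
  rw [map_mul, Equiv.Perm.coe_mul, Function.comp_apply, mem_K_iff_fix.1 he i hi]
  exact h i hi

/-- The order of `T0`. -/
theorem card_T0 : Nat.card T0 = 2 ^ 17 := by
  let f : Fin 128 × Fin 1024 → T0 := fun a =>
    ⟨gk a.1 * mk a.2, ⟨a.1, a.1.2, pat_mul_K (gk_pat a.1.2) (mk_mem a.2.2)⟩⟩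
  have hbij : Function.Bijective f := by
    constructor
    · rintro ⟨k, v⟩ ⟨l, w⟩ hfe
      have h1 : gk k * mk v = gk l * mk w := congrArg Subtype.val hfe
      have h2 := pat_mul_K (gk_pat k.2) (mk_mem v.2)
      have h3 := pat_mul_K (gk_pat l.2) (mk_mem w.2)
      rw [← h1] at h3
      have h4 : (k : ℕ) = l := pat_unique k.2 l.2 h2 h3
      have h5 : k = l := Fin.ext h4
      subst h5
      have h6 : mk v = mk w := mul_left_cancel h1
      have h7 := congrArg cde h6
      rw [cde_mk v.2, cde_mk w.2] at h7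
      have h8 : v = w := Fin.ext h7
      rw [h8]
    · rintro ⟨g, k, hk, hg⟩
      have h1 := pat_diff (gk_pat hk) hg
      refine ⟨(⟨k, hk⟩, ⟨cde _, cde_lt h1⟩), Subtype.ext ?_⟩
      show gk k * mk (cde _) = g
      rw [← eq_mk h1]
      group
  rw [← Nat.card_eq_of_bijective _ hbij]
  simp

theorem fact2 : (Nat.card G0).factorization 2 = 17 := by
  rw [card0]
  have h : (64561751654400 : ℕ) = 2 ^ 17 * 492567075 := by norm_num
  rw [h, Nat.factorization_mul (by norm_num) (by norm_num), Nat.Prime.factorization_pow Nat.prime_two]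
  have h2 : Nat.factorization 492567075 2 = 0 := Nat.factorization_eq_zero_of_not_dvd (by norm_num)
  simp [h2]

/-- `T0` as a Sylow subgroup. -/
noncomputable def T0S : Sylow 2 G0 :=
  haveI : Fact (Nat.Prime 2) := ⟨Nat.prime_two⟩
  Sylow.ofCard T0 (by rw [card_T0, fact2])

/-! ### The transpositions of `T0` -/

theorem comm_of_mem_T0 {x y : G0} (hx : x ∈ D0) (hy : y ∈ D0) (hxT : x ∈ T0) (hyT : y ∈ T0) : Commute x y := by
  rcases tt0.br x hx y hy with h | h
  · exact h
  · have hxx : x * x = 1 := tt0.sq x hx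
    have hyy : y * y = 1 := tt0.sq y hy
    have h3 : (x * y) ^ 3 = 1 := by
      calc (x * y) ^ 3 = (x * y * x) * (y * x * y) := by simp only [pow_succ, pow_zero, one_mul, mul_assoc]
        _ = (y * x * y) * (y * x * y) := by rw [h]
        _ = y * x * (y * y) * x * y := by group
        _ = y * (x * x) * y := by rw [hyy]; group
        _ = y * y := by rw [hxx]; group
        _ = 1 := hyy
    have hmem : x * y ∈ T0 := T0.mul_mem hxT hyT
    have h17 : (x * y) ^ (2 ^ 17) = 1 := by
      have h1 := pow_card_eq_one' (x := (⟨x * y, hmem⟩ : T0))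
      rw [card_T0] at h1
      exact congrArg Subtype.val h1
    have h4 : orderOf (x * y) ∣ Nat.gcd 3 (2 ^ 17) :=
      Nat.dvd_gcd (orderOf_dvd_of_pow_eq_one h3) (orderOf_dvd_of_pow_eq_one h17)
    have h5 : Nat.gcd 3 (2 ^ 17) = 1 := by norm_num
    rw [h5, Nat.dvd_one, orderOf_eq_one_iff] at h4
    have h6 : x = y := by
      have h7 : x = y⁻¹ := eq_inv_of_mul_eq_one_left h4
      rw [h7]
      exact inv_eq_of_mul_eq_one_left hyy
    rw [h6]

theorem om_check : allFrom (fun p => Bool.rec (motive := fun _ => Bool)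
    ((List.range 22).any (fun i => Bool.rec (motive := fun _ => Bool) true false (Nat.beq (dv i p) p)))
    true (OmL.any (fun a => Nat.beq a p))) (nat_lit 3510) (nat_lit 0) = true := by
  decide +kernel

theorem trans_of_mem {x : G0} (hx : x ∈ D0) (hxT : x ∈ T0) : ∃ i, i < 22 ∧ x = d i := by
  obtain ⟨p, rfl⟩ := mem_D0.1 hx
  have hcomm : ∀ i, i < 22 → dv i p = p := by
    intro i hi
    have h1 := comm_of_mem_T0 (t_mem (OmF i)) hx (by rw [← d_eq hi]; exact K_le_T0 (d_mem hi)) hxT
    have h2 := (comm_t_iff _ _).1 h1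
    rw [← d_val, d_eq hi, h2]
  have h3 := allFrom_spec om_check p (Nat.zero_le _) (by show (p : ℕ) < 0 + 3510; exact p.2)
  cases h4 : OmL.any (fun a => Nat.beq a p) with
  | true =>
    obtain ⟨a, ha, h5⟩ := List.any_eq_true.1 h4
    have h6 : a = p := beq_iff.1 h5
    obtain ⟨i, hi, h7⟩ := List.mem_iff_getElem.1 ha
    have hlen : OmL.length = 22 := by decide +kernel
    refine ⟨i, by omega, ?_⟩
    rw [d_eq (by omega)]
    congr 1
    apply Fin.ext
    show (p : ℕ) = OmL.getD i 0
    rw [List.getD_eq_getElem _ _ hi, h7, h6]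
  | false =>
    rw [h4] at h3
    obtain ⟨i, hi, h5⟩ := List.any_eq_true.1 h3
    rw [hcomm i (List.mem_range.1 hi), Nat.beq_refl] at h5
    cases h5

/-- The transpositions in `T0` generate `K`. -/
theorem closure_trans : Subgroup.closure {x : G0 | x ∈ D0 ∧ x ∈ T0} = K := by
  apply le_antisymm
  · rw [Subgroup.closure_le]
    rintro x ⟨hx, hxT⟩
    obtain ⟨i, hi, rfl⟩ := trans_of_mem hx hxT
    exact d_mem hi
  · apply K_le_closure
    intro i hi
    refine ⟨?_, K_le_T0 (d_mem hi)⟩
    rw [d_eq hi]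
    exact t_mem _

end Cfsg.Agent.Lib.Fischer.M22.Rows.SylTwo
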