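/-
The elementary abelian subgroups of the Sylow 2-subgroup `T0` of the explicit model of type M(22).
-/
import Mathlib
import Cfsg.Agent.Lib.Fischer.M22.Rows.SylTwoT
import Cfsg.Prelude.Def_Transfer

set_option autoImplicit false
set_option maxRecDepth 100000

namespace Cfsg.Agent.Lib.Fischer.M22.Rows.SylTwo

open Cfsg Cfsg.Agent.Lib.Compute.ToddCoxeterCore Cfsg.Agent.Lib.Compute.TCChain
open Cfsg.Agent.Lib.Fischer.M22.Explicit Cfsg.Agent.Lib.Fischer.M22.Rows

/-- The `k`-th permutation is an involution (or trivial). -/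
noncomputable def isInv (k : ℕ) : Bool := (List.range 22).all (fun i => Nat.beq (sE k (sE k i)) i)

/-- The `k`-th and `l`-th permutations commute. -/
noncomputable def cmt (k l : ℕ) : Bool := (List.range 22).all (fun i => Nat.beq (sE k (sE l i)) (sE l (sE k i)))

/-- The action on codes. -/
noncomputable def Ak (k v : ℕ) : ℕ := cw (nat_lit 0) ((mkL v).map (sE k))

/-- The table of fixed codes. -/
noncomputable def fxT (k v : ℕ) : Bool := tb FMT (Nat.add (Nat.mul k (nat_lit 1024)) v)

/-- Not. -/
noncomputable abbrev nb (b : Bool) : Bool := Bool.rec (motive := fun _ => Bool) true false b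

/-- Or. -/
noncomputable abbrev orb' (a b : Bool) : Bool := Bool.rec (motive := fun _ => Bool) b true a

/-- And. -/
noncomputable abbrev andb' (a b : Bool) : Bool := Bool.rec (motive := fun _ => Bool) false b a

theorem F1_check : (List.range 128).all (fun k =>
    orb' (nb (isInv k)) (orb' (Nat.beq k (nat_lit 0))
      (andb' (allFrom (fun v => orb' (nb (Nat.beq (Ak k v) v)) (fxT k v)) (nat_lit 1024) (nat_lit 0))
        (Nat.ble (cntF (fxT k) (nat_lit 1024) (nat_lit 0) (nat_lit 0)) (nat_lit 64))))) = true := by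
  decide +kernel

theorem F2_check : (List.range 128).all (fun k => orb' (nb (isInv k)) (orb' (Nat.beq k (nat_lit 0))
    ((List.range 128).all (fun l => orb' (nb (isInv l)) (orb' (Nat.beq l (nat_lit 0)) (orb' (Nat.beq k l)
      (orb' (nb (cmt k l))
        (Nat.ble (cntF (fun v => andb' (fxT k v) (fxT l v)) (nat_lit 1024) (nat_lit 0) (nat_lit 0)) (nat_lit 32))))))))) = true := by
  decide +kernel

/-- The commuting involutions of `k`. -/
noncomputable def nbr (k l : ℕ) : Bool :=
  andb' (isInv l) (andb' (nb (Nat.beq l (nat_lit 0))) (andb' (nb (Nat.beq l k)) (cmt k l)))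

theorem F3_check : (List.range 128).all (fun k => orb' (nb (isInv k)) (orb' (Nat.beq k (nat_lit 0)) (orb' (Nat.beq k (nat_lit 120))
    (Nat.ble (cntF (nbr k) (nat_lit 128) (nat_lit 0) (nat_lit 0)) (nat_lit 26))))) = true := by
  decide +kernel

theorem orb_true {a b : Bool} (h : orb' a b = true) : a = true ∨ b = true := by
  cases a
  · right; exact h
  · left; rfl

theorem andb_true {a b : Bool} (h : andb' a b = true) : a = true ∧ b = true := by
  cases a
  · cases h
  · exact ⟨rfl, h⟩

theorem nb_true {a : Bool} (h : nb a = true) : a = false := by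
  cases a
  · rfl
  · cases h

/-- The consequence of the first check. -/
theorem F1 {k : ℕ} (hk : k < 128) (hi : isInv k = true) (h0 : k ≠ 0) :
    (∀ v, v < 1024 → Ak k v = v → fxT k v = true) ∧
      ((Finset.range 1024).filter (fun v => fxT k v = true)).card ≤ 64 := by
  have h := List.all_eq_true.1 F1_check k (List.mem_range.2 hk)
  rcases orb_true h with h | h
  · rw [nb_true h] at hi; cases hi
  rcases orb_true h with h | h
  · exact absurd (beq_iff.1 h) h0
  obtain ⟨h1, h2⟩ := andb_true h
  constructor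
  · intro v hv he
    rcases orb_true (allFrom_spec h1 v (Nat.zero_le _) (by show v < 0 + 1024; omega)) with h3 | h3
    · have h4 := nb_true h3
      rw [he, Nat.beq_refl] at h4
      cases h4
    · exact h3
  · rw [cntF_eq] at h2
    have h3 := Nat.le_of_ble_eq_true h2
    have h4 : Finset.Ico 0 (0 + 1024) = Finset.range 1024 := by
      ext x; simp
    rw [h4] at h3
    have h5 : 0 + ((Finset.range 1024).filter (fun v => fxT k v = true)).card ≤ 64 := h3
    omega

theorem F2 {k l : ℕ} (hk : k < 128) (hl : l < 128) (hi : isInv k = true) (hj : isInv l = true) (h0 : k ≠ 0) (h0' : l ≠ 0)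
    (hne : k ≠ l) (hc : cmt k l = true) :
    ((Finset.range 1024).filter (fun v => fxT k v = true ∧ fxT l v = true)).card ≤ 32 := by
  have h := List.all_eq_true.1 F2_check k (List.mem_range.2 hk)
  rcases orb_true h with h | h
  · rw [nb_true h] at hi; cases hi
  rcases orb_true h with h | h
  · exact absurd (beq_iff.1 h) h0
  have h1 := List.all_eq_true.1 h l (List.mem_range.2 hl)
  rcases orb_true h1 with h1 | h1
  · rw [nb_true h1] at hj; cases hj
  rcases orb_true h1 with h1 | h1
  · exact absurd (beq_iff.1 h1) h0'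
  rcases orb_true h1 with h1 | h1
  · exact absurd (beq_iff.1 h1) hne
  rcases orb_true h1 with h1 | h1
  · rw [nb_true h1] at hc; cases hc
  rw [cntF_eq] at h1
  have h3 := Nat.le_of_ble_eq_true h1
  have h4 : Finset.Ico 0 (0 + 1024) = Finset.range 1024 := by
    ext x; simp
  rw [h4] at h3
  have h5 : (Finset.range 1024).filter (fun v => fxT k v = true ∧ fxT l v = true) =
      (Finset.range 1024).filter (fun v => andb' (fxT k v) (fxT l v) = true) := by
    ext v
    simp only [Finset.mem_filter, and_congr_right_iff]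
    intro _
    exact ⟨fun ⟨a, b⟩ => by rw [a]; exact b, fun a => andb_true a⟩
  rw [h5]
  have h6 : 0 + ((Finset.range 1024).filter (fun v => andb' (fxT k v) (fxT l v) = true)).card ≤ 32 := h3
  omega

theorem F3 {k : ℕ} (hk : k < 128) (hi : isInv k = true) (h0 : k ≠ 0) (h120 : k ≠ 120) :
    ((Finset.range 128).filter (fun l => nbr k l = true)).card ≤ 26 := by
  have h := List.all_eq_true.1 F3_check k (List.mem_range.2 hk)
  rcases orb_true h with h | h
  · rw [nb_true h] at hi; cases hi
  rcases orb_true h with h | h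
  · exact absurd (beq_iff.1 h) h0
  rcases orb_true h with h | h
  · exact absurd (beq_iff.1 h) h120
  rw [cntF_eq] at h
  have h3 := Nat.le_of_ble_eq_true h
  have h4 : Finset.Ico 0 (0 + 128) = Finset.range 128 := by
    ext x; simp
  rw [h4] at h3
  have h5 : 0 + ((Finset.range 128).filter (fun l => nbr k l = true)).card ≤ 26 := h3
  omega

/-! ### Patterns of commuting elements -/

theorem pat_conj {x : G0} {k i : ℕ} (hk : k < 128) (h : IsPat x k) (hi : i < 22) : x * d i * x⁻¹ = d (sE k i) := by
  rw [d_eq hi, t_conj, pat_val h hi, d_eq (sE_lt hk hi)]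

theorem conj_word {x : G0} {k : ℕ} (hk : k < 128) (h : IsPat x k) {w : List ℕ} (hw : ∀ y ∈ w, y < 22) :
    x * wordEl d w * x⁻¹ = wordEl d (w.map (sE k)) := by
  induction w with
  | nil => simp
  | cons y r ih =>
    rw [List.map_cons, wordEl_cons, wordEl_cons, ← pat_conj hk h (hw y (by simp)),
      ← ih (fun z hz => hw z (by simp [hz]))]
    group

theorem Ak_of_comm {x e : G0} {k : ℕ} (hk : k < 128) (h : IsPat x k) (he : e ∈ K) (hc : x * e = e * x) :
    Ak k (cde e) = cde e := by
  set v := cde e with hv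
  have hvlt : v < 1024 := cde_lt he
  have h1 : e = wordEl d (mkL v) := eq_mk he
  have h2 : x * e * x⁻¹ = e := by rw [hc]; group
  rw [h1, conj_word hk h (mkL_lt hvlt)] at h2
  have hmap : ∀ y ∈ (mkL v).map (sE k), y < 22 := by
    intro y hy
    obtain ⟨z, hz, rfl⟩ := List.mem_map.1 hy
    exact sE_lt hk (mkL_lt hvlt z hz)
  have h3 := word_val hmap (u := 0) (by norm_num) q0 q0_val
  rw [h2] at h3
  have h4 := mk_val hvlt
  have h5 : mk v = wordEl d (mkL v) := rfl
  rw [h5] at h4
  rw [h4] at h3
  exact (Lb_inj hvlt (cw_lt (by norm_num) hmap) h3).symm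

theorem isInv_of_sq {x : G0} {k : ℕ} (hk : k < 128) (h : IsPat x k) (hx : x * x = 1) : isInv k = true := by
  unfold isInv
  rw [List.all_eq_true]
  intro i hi
  have hi' := List.mem_range.1 hi
  apply (beq_iff (a := sE k (sE k i)) (b := i)).2
  apply Om_inj (sE_lt hk (sE_lt hk hi')) hi'
  have h1 : φ (x * x) (OmF i) = OmF i := by rw [hx]; simp
  rw [map_mul, Equiv.Perm.coe_mul, Function.comp_apply, pat_val h hi', pat_val h (sE_lt hk hi')] at h1
  exact congrArg Fin.val h1

theorem cmt_of_comm {x y : G0} {k l : ℕ} (hk : k < 128) (hl : l < 128) (h : IsPat x k) (h' : IsPat y l)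
    (hc : x * y = y * x) : cmt k l = true := by
  unfold cmt
  rw [List.all_eq_true]
  intro i hi
  have hi' := List.mem_range.1 hi
  apply (beq_iff (a := sE k (sE l i)) (b := sE l (sE k i))).2
  apply Om_inj (sE_lt hk (sE_lt hl hi')) (sE_lt hl (sE_lt hk hi'))
  have h1 : φ (x * y) (OmF i) = φ (y * x) (OmF i) := by rw [hc]
  rw [map_mul, map_mul, Equiv.Perm.coe_mul, Equiv.Perm.coe_mul, Function.comp_apply, Function.comp_apply,
    pat_val h hi', pat_val h' hi', pat_val h (sE_lt hl hi'), pat_val h' (sE_lt hk hi')] at h1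
  exact congrArg Fin.val h1

/-! ### The main bound -/

open Classical in
/-- A pattern of an element. -/
noncomputable def patOf (g : G0) : ℕ := if h : g ∈ T0 then h.choose else 0

theorem patOf_spec {g : G0} (h : g ∈ T0) : patOf g < 128 ∧ IsPat g (patOf g) := by
  unfold patOf
  rw [dif_pos h]
  exact h.choose_spec

section
open scoped Classical

theorem elem_bound (A : Subgroup G0) (hA : A ≤ T0) (hE : IsElementaryAbelian 2 A) {x₁ : G0} (hx₁ : x₁ ∈ A) (hx₁K : x₁ ∉ K) :
    Nat.card A < 1024 := by
  classical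
  haveI : Fintype G0 := Fintype.ofFinite G0
  obtain ⟨hcomm, hexp⟩ := hE
  have hAc : ∀ x ∈ A, ∀ y ∈ A, x * y = y * x := by
    intro x hx y hy
    have := hcomm.is_comm.comm (⟨x, hx⟩ : A) ⟨y, hy⟩
    exact congrArg Subtype.val this
  have hAs : ∀ x ∈ A, x * x = 1 := fun x hx => by
    have := hexp x hx
    rwa [pow_two] at this
  set S : Finset G0 := Finset.univ.filter (fun x => x ∈ A) with hS
  have hcard : Nat.card A = S.card := by
    rw [Nat.card_eq_fintype_card, Fintype.card_subtype]
  have hSmem : ∀ x, x ∈ S ↔ x ∈ A := by intro x; simp [hS]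
  have hpat : ∀ x, x ∈ A → patOf x < 128 ∧ IsPat x (patOf x) := fun x hx => patOf_spec (hA hx)
  -- first element
  set k₁ := patOf x₁ with hk₁
  obtain ⟨hk₁lt, hk₁p⟩ := hpat x₁ hx₁
  have hk₁0 : k₁ ≠ 0 := by
    intro h0
    have h0' : patOf x₁ = 0 := h0
    rw [h0'] at hk₁p
    exact hx₁K (pat_zero_iff.1 hk₁p)
  have hk₁i : isInv k₁ = true := isInv_of_sq hk₁lt hk₁p (hAs _ hx₁)
  -- the part in K
  set AK : Finset G0 := S.filter (fun x => x ∈ K) with hAK
  have hfib : ∀ a ∈ S.image patOf, (S.filter (fun x => patOf x = a)).card ≤ AK.card := by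
    intro a ha
    obtain ⟨x₀, hx₀, rfl⟩ := Finset.mem_image.1 ha
    have hx₀A := (hSmem x₀).1 hx₀
    apply Finset.card_le_card_of_injOn (fun y => x₀⁻¹ * y)
    · intro y hy
      have hy' := Finset.mem_filter.1 (Finset.mem_coe.1 hy)
      have hyA := (hSmem y).1 hy'.1
      apply Finset.mem_coe.2
      rw [hAK, Finset.mem_filter, hSmem]
      refine ⟨A.mul_mem (A.inv_mem hx₀A) hyA, ?_⟩
      have h1 := (hpat y hyA).2
      rw [hy'.2] at h1
      exact pat_diff (hpat x₀ hx₀A).2 h1
    · intro y _ y' _ he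
      exact mul_left_cancel he
  -- the code bound
  have hcode : ∀ (k : ℕ), k ∈ S.image patOf → ∀ e ∈ AK, Ak k (cde e) = cde e := by
    intro k hk e he
    obtain ⟨x, hx, rfl⟩ := Finset.mem_image.1 hk
    have hxA := (hSmem x).1 hx
    have he' := Finset.mem_filter.1 he
    exact Ak_of_comm (hpat x hxA).1 (hpat x hxA).2 he'.2 (hAc x hxA e ((hSmem e).1 he'.1))
  have hinv : ∀ k ∈ S.image patOf, k < 128 ∧ isInv k = true := by
    intro k hk
    obtain ⟨x, hx, rfl⟩ := Finset.mem_image.1 hk
    have hxA := (hSmem x).1 hx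
    exact ⟨(hpat x hxA).1, isInv_of_sq (hpat x hxA).1 (hpat x hxA).2 (hAs x hxA)⟩
  have hcm : ∀ k ∈ S.image patOf, ∀ l ∈ S.image patOf, cmt k l = true := by
    intro k hk l hl
    obtain ⟨x, hx, rfl⟩ := Finset.mem_image.1 hk
    obtain ⟨y, hy, rfl⟩ := Finset.mem_image.1 hl
    have hxA := (hSmem x).1 hx
    have hyA := (hSmem y).1 hy
    exact cmt_of_comm (hpat x hxA).1 (hpat y hyA).1 (hpat x hxA).2 (hpat y hyA).2 (hAc x hxA y hyA)
  have hk₁B : k₁ ∈ S.image patOf := Finset.mem_image.2 ⟨x₁, (hSmem _).2 hx₁, rfl⟩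
  have hAKfx : ∀ k ∈ S.image patOf, k ≠ 0 → ∀ e ∈ AK, fxT k (cde e) = true := by
    intro k hk hk0 e he
    have he' := Finset.mem_filter.1 he
    exact (F1 (hinv k hk).1 (hinv k hk).2 hk0).1 _ (cde_lt he'.2) (hcode k hk e he)
  have hinjAK : Set.InjOn cde (AK : Set G0) := by
    intro e he e' he' h
    exact cde_inj (Finset.mem_filter.1 (Finset.mem_coe.1 he)).2 (Finset.mem_filter.1 (Finset.mem_coe.1 he')).2 h
  have hAK64 : AK.card ≤ 64 := by
    refine le_trans (Finset.card_le_card_of_injOn cde ?_ hinjAK) (F1 hk₁lt hk₁i hk₁0).2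
    intro e he
    have he' := Finset.mem_coe.1 he
    apply Finset.mem_coe.2
    rw [Finset.mem_filter, Finset.mem_range]
    exact ⟨cde_lt (Finset.mem_filter.1 he').2, hAKfx k₁ hk₁B hk₁0 e he'⟩
  have hmul := Finset.card_le_mul_card_image S AK.card hfib
  rw [hcard]
  by_cases hB : ∀ k ∈ S.image patOf, k = 0 ∨ k = k₁
  · -- at most two patterns
    have hB2 : (S.image patOf).card ≤ 2 := by
      have : S.image patOf ⊆ {0, k₁} := by
        intro k hk
        rcases hB k hk with h | h <;> simp [h]
      exact le_trans (Finset.card_le_card this) Finset.card_le_two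
    calc S.card ≤ AK.card * (S.image patOf).card := hmul
      _ ≤ 64 * 2 := Nat.mul_le_mul hAK64 hB2
      _ < 1024 := by norm_num
  · push Not at hB
    obtain ⟨k₂, hk₂B, hk₂0, hk₂1⟩ := hB
    have hAK32 : AK.card ≤ 32 := by
      refine le_trans (Finset.card_le_card_of_injOn cde ?_ hinjAK)
        (F2 hk₁lt (hinv k₂ hk₂B).1 hk₁i (hinv k₂ hk₂B).2 hk₁0 hk₂0 (Ne.symm hk₂1) (hcm k₁ hk₁B k₂ hk₂B))
      intro e he
      have he' := Finset.mem_coe.1 he
      apply Finset.mem_coe.2
      rw [Finset.mem_filter, Finset.mem_range]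
      exact ⟨cde_lt (Finset.mem_filter.1 he').2, hAKfx k₁ hk₁B hk₁0 e he', hAKfx k₂ hk₂B hk₂0 e he'⟩
    -- a non central pattern
    obtain ⟨j, hjB, hj0, hj120⟩ : ∃ j ∈ S.image patOf, j ≠ 0 ∧ j ≠ 120 := by
      by_cases h : k₁ = 120
      · exact ⟨k₂, hk₂B, hk₂0, by rw [← h]; exact hk₂1⟩
      · exact ⟨k₁, hk₁B, hk₁0, h⟩
    have hBsub : S.image patOf ⊆ insert 0 (insert j ((Finset.range 128).filter (fun l => nbr j l = true))) := by
      intro l hl
      by_cases h0 : l = 0
      · simp [h0]
      by_cases hlj : l = j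
      · simp [hlj]
      rw [Finset.mem_insert, Finset.mem_insert, Finset.mem_filter, Finset.mem_range]
      right; right
      refine ⟨(hinv l hl).1, ?_⟩
      unfold nbr
      rw [(hinv l hl).2, hcm j hjB l hl]
      have h1 : Nat.beq l 0 = false := by
        cases h2 : Nat.beq l 0 with
        | false => rfl
        | true => exact absurd (beq_iff.1 h2) h0
      have h3 : Nat.beq l j = false := by
        cases h2 : Nat.beq l j with
        | false => rfl
        | true => exact absurd (beq_iff.1 h2) hlj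
      rw [h1, h3]
    have hB28 : (S.image patOf).card ≤ 28 := by
      refine le_trans (Finset.card_le_card hBsub) ?_
      have h1 := F3 (hinv j hjB).1 (hinv j hjB).2 hj0 hj120
      have h2 := Finset.card_insert_le 0 (insert j ((Finset.range 128).filter (fun l => nbr j l = true)))
      have h3 := Finset.card_insert_le j ((Finset.range 128).filter (fun l => nbr j l = true))
      omega
    calc S.card ≤ AK.card * (S.image patOf).card := hmul
      _ ≤ 32 * 28 := Nat.mul_le_mul hAK32 hB28
      _ < 1024 := by norm_num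

end

/-- `K` is elementary abelian. -/
theorem K_elem : IsElementaryAbelian 2 K := by
  refine ⟨⟨⟨fun x y => Subtype.ext (K_comm x.2 y.2)⟩⟩, fun a ha => K_sq ha⟩

/-- The summary: the elementary abelian subgroups of `T0`. -/
theorem elem_T0 (A : Subgroup G0) (hA : A ≤ T0) (hE : IsElementaryAbelian 2 A) :
    Nat.card A ≤ 1024 ∧ (Nat.card A = 1024 → A = K) := by
  by_cases h : ∃ x ∈ A, x ∉ K
  · obtain ⟨x, hx, hxK⟩ := h
    have := elem_bound A hA hE hx hxK
    exact ⟨this.le, fun h1 => by omega⟩
  · push Not at h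
    have hle : A ≤ K := h
    have h1 : Nat.card A ≤ Nat.card K := Subgroup.card_le_of_le hle
    rw [card_K] at h1
    refine ⟨h1, fun h2 => ?_⟩
    exact Subgroup.eq_of_le_of_card_ge hle (by rw [card_K, h2])

end Cfsg.Agent.Lib.Fischer.M22.Rows.SylTwo
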