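/-
An automorphism of order at most two of the explicit model of type M(22) fixes a transposition.

The automorphism normalizes a Sylow 2-subgroup, and (after conjugating) `T0`, so it permutes the 22 transpositions of `T0`.
If it has no fixed point there, then the commutator map on `K` has image equal to its kernel (a finite search over the
possible perfect matchings of the 22 transpositions), so the automorphism has a fixed point among the 1024 transpositions on
which `K` acts regularly.
-/
import Mathlib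
import Cfsg.Agent.Lib.Fischer.M22.Rows.SylTwoJ
import Cfsg.Agent.Lib.Fischer.M22.ExplicitFact

set_option autoImplicit false
set_option maxRecDepth 100000

namespace Cfsg.Agent.Lib.Fischer.M22.Rows.AutFix

open Cfsg Cfsg.Agent.Lib.Compute.ToddCoxeterCore Cfsg.Agent.Lib.Compute.TCChain
open Cfsg.Agent.Lib.Fischer.M22.Explicit Cfsg.Agent.Lib.Fischer.M22.Rows Cfsg.Agent.Lib.Fischer.M22.Rows.SylTwo

/-! ### The search -/

/-- The sizes of the orbits of the 128 permutations on the 22 indices. -/
noncomputable def oc (i : ℕ) : ℕ := Nat.land (Nat.shiftRight (nat_lit 654761980541513617602006693200016) (Nat.mul i (nat_lit 5))) (nat_lit 31)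

/-- The order of the search. -/
def ordL : List ℕ := [7, 8, 1, 13, 15, 20, 0, 2, 3, 4, 5, 6, 9, 10, 11, 12, 14, 16, 17, 18, 19, 21]

/-- A relation among the 22 transpositions. -/
def R1 : List ℕ := [1, 4, 6, 8, 11, 12]

/-- A relation among the 22 transpositions. -/
def R2 : List ℕ := [0, 2, 3, 7, 15, 17]

/-- Membership. -/
def mem' (S : List ℕ) (w : ℕ) : Bool := S.any (fun a => Nat.beq a w)

/-- Extending a span. -/
def extS (S : List ℕ) (w : ℕ) : List ℕ :=
  cond (mem' S w) S (S ++ S.map (fun c => Nat.xor w c))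

/-- The span is large enough. -/
def good (S : List ℕ) : Bool := Nat.ble (nat_lit 32) S.length

/-- The partner of a point in a partial matching. -/
def lk : List (ℕ × ℕ) → ℕ → ℕ
  | [], _ => 0
  | p :: L, i => cond (Nat.beq i p.1) p.2 (cond (Nat.beq i p.2) p.1 (lk L i))

/-- The matching breaks one of the relations. -/
noncomputable def leafBad (L : List (ℕ × ℕ)) : Bool :=
  or (not (Nat.beq (cw 0 (R1.map (lk L))) 0)) (not (Nat.beq (cw 0 (R2.map (lk L))) 0))

/-- The search over the perfect matchings which respect the orbits. -/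
noncomputable def go : ℕ → List ℕ → List ℕ → List (ℕ × ℕ) → Bool
  | 0, _, _, _ => false
  | n + 1, rem, S, L =>
    or (good S) (match rem with
      | [] => leafBad L
      | i :: r => r.all (fun j => or (not (Nat.beq (oc i) (oc j)))
          (go n (r.filter (fun x => not (Nat.beq x j))) (extS S (Nat.xor (DV i) (DV j))) ((i, j) :: L))))

theorem go_ok : go 12 ordL [0] [] = true := by decide +kernel

theorem mem'_iff {S : List ℕ} {w : ℕ} : mem' S w = true ↔ w ∈ S := by
  unfold mem'
  rw [List.any_eq_true]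
  constructor
  · rintro ⟨a, ha, h⟩
    rwa [← beq_iff.1 h]
  · intro h
    exact ⟨w, h, Nat.beq_refl w⟩

theorem xor_cancel (a b : ℕ) : Nat.xor a (Nat.xor a b) = b := by
  show a ^^^ (a ^^^ b) = b
  rw [← Nat.xor_assoc, Nat.xor_self, Nat.zero_xor]

/-- Spans: a duplicate-free list closed under the sum. -/
def IsSpan (S : List ℕ) : Prop := S.Nodup ∧ ∀ a ∈ S, ∀ b ∈ S, Nat.xor a b ∈ S

theorem extS_span {S : List ℕ} (hS : IsSpan S) (w : ℕ) : IsSpan (extS S w) := by
  unfold extS
  cases h : mem' S w with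
  | true => exact hS
  | false =>
    have hw : w ∉ S := fun hw => by
      rw [mem'_iff.2 hw] at h
      cases h
    obtain ⟨h1, h2⟩ := hS
    show IsSpan (S ++ S.map (fun c => Nat.xor w c))
    constructor
    · refine List.nodup_append.2 ⟨h1, ?_, ?_⟩
      · refine h1.map ?_
        intro a b hab
        have h3 := congrArg (Nat.xor w) hab
        simpa only [xor_cancel] using h3
      · rintro a ha _ hb rfl
        obtain ⟨c, hc, rfl⟩ := List.mem_map.1 hb
        apply hw
        have h3 := h2 _ ha _ hc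
        have h4 : Nat.xor (Nat.xor w c) c = w := by
          show (w ^^^ c) ^^^ c = w
          rw [Nat.xor_assoc, Nat.xor_self, Nat.xor_zero]
        rwa [h4] at h3
    · intro a ha b hb
      rcases List.mem_append.1 ha with ha | ha <;> rcases List.mem_append.1 hb with hb | hb
      · exact List.mem_append_left _ (h2 a ha b hb)
      · obtain ⟨c, hc, rfl⟩ := List.mem_map.1 hb
        refine List.mem_append_right _ (List.mem_map.2 ⟨Nat.xor a c, h2 a ha c hc, ?_⟩)
        show w ^^^ (a ^^^ c) = a ^^^ (w ^^^ c)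
        rw [← Nat.xor_assoc, ← Nat.xor_assoc, Nat.xor_comm w a]
      · obtain ⟨c, hc, rfl⟩ := List.mem_map.1 ha
        refine List.mem_append_right _ (List.mem_map.2 ⟨Nat.xor c b, h2 c hc b hb, ?_⟩)
        show w ^^^ (c ^^^ b) = (w ^^^ c) ^^^ b
        rw [Nat.xor_assoc]
      · obtain ⟨c, hc, rfl⟩ := List.mem_map.1 ha
        obtain ⟨e, he, rfl⟩ := List.mem_map.1 hb
        refine List.mem_append_left _ ?_
        have h3 : Nat.xor (Nat.xor w c) (Nat.xor w e) = Nat.xor c e := by
          show (w ^^^ c) ^^^ (w ^^^ e) = c ^^^ e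
          rw [Nat.xor_comm w c, Nat.xor_assoc, ← Nat.xor_assoc w w, Nat.xor_self, Nat.zero_xor]
        rw [h3]
        exact h2 c hc e he

/-- The hypotheses of the search on the abstract matching. -/
structure SH (P : ℕ → Prop) (ω : ℕ → ℕ) : Prop where
  hlt : ∀ i, i < 22 → ω i < 22
  hinv : ∀ i, i < 22 → ω (ω i) = i
  hne : ∀ i, i < 22 → ω i ≠ i
  horb : ∀ i, i < 22 → oc (ω i) = oc i
  hpw : ∀ i, i < 22 → P (Nat.xor (DV i) (DV (ω i)))
  hclosed : ∀ a b, P a → P b → P (Nat.xor a b)
  hr1 : cw 0 (R1.map ω) = 0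
  hr2 : cw 0 (R2.map ω) = 0

theorem lk_eq {ω : ℕ → ℕ} {L : List (ℕ × ℕ)} (hL : ∀ p ∈ L, ω p.1 = p.2 ∧ ω p.2 = p.1) {i : ℕ}
    (hi : ∃ p ∈ L, p.1 = i ∨ p.2 = i) : lk L i = ω i := by
  induction L with
  | nil =>
    obtain ⟨p, hp, _⟩ := hi
    cases hp
  | cons q L ih =>
    show cond (Nat.beq i q.1) q.2 (cond (Nat.beq i q.2) q.1 (lk L i)) = ω i
    cases h1 : Nat.beq i q.1 with
    | true =>
      have h2 : i = q.1 := beq_iff.1 h1
      show q.2 = ω i
      rw [h2]
      exact (hL q (by simp)).1.symm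
    | false =>
      cases h2 : Nat.beq i q.2 with
      | true =>
        have h3 : i = q.2 := beq_iff.1 h2
        show q.1 = ω i
        rw [h3]
        exact (hL q (by simp)).2.symm
      | false =>
        show lk L i = ω i
        apply ih (fun p hp => hL p (by simp [hp]))
        obtain ⟨p, hp, hpi⟩ := hi
        rcases List.mem_cons.1 hp with rfl | hp'
        · exfalso
          rcases hpi with hpi | hpi
          · rw [← hpi, Nat.beq_refl] at h1
            cases h1
          · rw [← hpi, Nat.beq_refl] at h2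
            cases h2
        · exact ⟨p, hp', hpi⟩

theorem R1_lt : ∀ i ∈ R1, i < 22 := by decide

theorem ordL_lt : ∀ i ∈ ordL, i < 22 := by decide

theorem ordL_all : ∀ i, i < 22 → i ∈ ordL := by decide

theorem R2_lt : ∀ i ∈ R2, i < 22 := by decide

theorem go_sound {P : ℕ → Prop} {ω : ℕ → ℕ} (H : SH P ω) : ∀ (n : ℕ) (rem S : List ℕ) (L : List (ℕ × ℕ)),
    go n rem S L = true → rem.Nodup → (∀ i ∈ rem, i < 22) → (∀ i ∈ rem, ω i ∈ rem) → IsSpan S → (∀ c ∈ S, P c) →
    (∀ p ∈ L, ω p.1 = p.2 ∧ ω p.2 = p.1) → (∀ i, i < 22 → i ∈ rem ∨ ∃ p ∈ L, p.1 = i ∨ p.2 = i) →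
    ∃ S' : List ℕ, S'.Nodup ∧ 32 ≤ S'.length ∧ ∀ c ∈ S', P c := by
  intro n
  induction n with
  | zero =>
    intro rem S L h
    cases h
  | succ n ih =>
    intro rem S L h hnd hlt hcl hsp hS hL hdom
    unfold go at h
    rw [Bool.or_eq_true] at h
    rcases h with h | h
    · exact ⟨S, hsp.1, Nat.le_of_ble_eq_true h, hS⟩
    · cases rem with
      | nil =>
        exfalso
        have hdom' : ∀ i, i < 22 → lk L i = ω i := fun i hi =>
          lk_eq hL ((hdom i hi).resolve_left (by simp))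
        have e1 : R1.map (lk L) = R1.map ω := List.map_congr_left (fun i hi => hdom' i (R1_lt i hi))
        have e2 : R2.map (lk L) = R2.map ω := List.map_congr_left (fun i hi => hdom' i (R2_lt i hi))
        have h' : leafBad L = true := h
        rw [leafBad, Bool.or_eq_true, e1, e2, H.hr1, H.hr2] at h'
        rcases h' with h' | h' <;> exact absurd h' (by decide)
      | cons i r =>
        have hi22 : i < 22 := hlt i (by simp)
        have hiR : ω i ∈ r := by
          have := hcl i (by simp)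
          rcases List.mem_cons.1 this with h' | h'
          · exact absurd h' (H.hne i hi22)
          · exact h'
        have h1 := List.all_eq_true.1 h (ω i) hiR
        rw [Bool.or_eq_true] at h1
        rcases h1 with h1 | h1
        · rw [H.horb i hi22, Nat.beq_refl] at h1
          cases h1
        · have hiNot : i ∉ r := (List.nodup_cons.1 hnd).1
          have hωinj : ∀ a b, a < 22 → b < 22 → ω a = ω b → a = b := by
            intro a b ha hb hab
            rw [← H.hinv a ha, ← H.hinv b hb, hab]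
          refine ih _ _ _ h1 ?_ ?_ ?_ (extS_span hsp _) ?_ ?_ ?_
          · exact (List.nodup_cons.1 hnd).2.filter _
          · intro x hx
            exact hlt x (List.mem_cons_of_mem _ (List.mem_of_mem_filter hx))
          · intro x hx
            have hxr := List.mem_of_mem_filter hx
            have hxne : x ≠ ω i := by
              intro hxe
              have := (List.mem_filter.1 hx).2
              rw [hxe, Nat.beq_refl] at this
              cases this
            have hx22 : x < 22 := hlt x (List.mem_cons_of_mem _ hxr)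
            have h2 := hcl x (List.mem_cons_of_mem _ hxr)
            rcases List.mem_cons.1 h2 with h3 | h3
            · exfalso
              apply hxne
              rw [← h3, H.hinv x hx22]
            · refine List.mem_filter.2 ⟨h3, ?_⟩
              cases h4 : Nat.beq (ω x) (ω i) with
              | false => rfl
              | true =>
                have h5 := hωinj x i hx22 hi22 (beq_iff.1 h4)
                exact absurd (h5 ▸ hxr) hiNot
          · intro c hc
            unfold extS at hc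
            cases h4 : mem' S (Nat.xor (DV i) (DV (ω i))) with
            | true =>
              rw [h4] at hc
              exact hS c hc
            | false =>
              rw [h4] at hc
              rcases List.mem_append.1 hc with hc | hc
              · exact hS c hc
              · obtain ⟨a, ha, rfl⟩ := List.mem_map.1 hc
                exact H.hclosed _ _ (H.hpw i hi22) (hS a ha)
          · intro p hp
            rcases List.mem_cons.1 hp with rfl | hp'
            · exact ⟨rfl, H.hinv i hi22⟩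
            · exact hL p hp'
          · intro y hy
            rcases hdom y hy with h2 | h2
            · rcases List.mem_cons.1 h2 with h3 | h3
              · right
                exact ⟨(i, ω i), by simp, Or.inl h3.symm⟩
              · by_cases h4 : y = ω i
                · right
                  exact ⟨(i, ω i), by simp, Or.inr h4.symm⟩
                · left
                  refine List.mem_filter.2 ⟨h3, ?_⟩
                  cases h5 : Nat.beq y (ω i) with
                  | false => rfl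
                  | true => exact absurd (beq_iff.1 h5) h4
            · right
              obtain ⟨p, hp, hpy⟩ := h2
              exact ⟨p, List.mem_cons_of_mem _ hp, hpy⟩

/-! ### Codes -/

theorem cde_word {w : List ℕ} (hw : ∀ x ∈ w, x < 22) : cde (wordEl d w) = cw 0 w := by
  have h := word_val hw (u := 0) (by norm_num) q0 q0_val
  show Cd ((φ (wordEl d w) q0 : Fin NN) : ℕ) = cw 0 w
  rw [h, Cd_Lb (cw_lt (by norm_num) hw)]

theorem cde_one : cde 1 = 0 := by
  have h := cde_word (w := []) (by simp)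
  simpa [cw] using h

theorem cde_d {i : ℕ} (hi : i < 22) : cde (d i) = DV i := by
  have h := cde_word (w := [i]) (by simpa using hi)
  have h1 : wordEl d [i] = d i := by simp
  rw [h1] at h
  rw [h]
  show Nat.xor 0 (DV i) = DV i
  exact Nat.zero_xor _

theorem cde_mul {x y : G0} (hx : x ∈ K) (hy : y ∈ K) : cde (x * y) = Nat.xor (cde x) (cde y) := by
  have hylb : ((φ y q0 : Fin NN) : ℕ) = Lb (cde y) := (mask_spec (Fin.isLt _) (K_mask hy)).2.symm
  have hx1 : x = wordEl d (mkL (cde x)) := eq_mk hx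
  have h := word_val (mkL_lt (cde_lt hx)) (cde_lt hy) (φ y q0) hylb
  rw [← hx1, cw_xor, cw_mkL (cde_lt hx)] at h
  show Cd ((φ (x * y) q0 : Fin NN) : ℕ) = _
  rw [map_mul, Equiv.Perm.coe_mul, Function.comp_apply, h, Cd_Lb (xor_lt (cde_lt hy) (cde_lt hx))]
  exact Nat.xor_comm _ _

theorem d_mem_D0 {i : ℕ} (hi : i < 22) : d i ∈ D0 := by
  rw [d_eq hi]
  exact t_mem _

theorem d_inj {a b : ℕ} (ha : a < 22) (hb : b < 22) (h : d a = d b) : a = b := by
  rw [d_eq ha, d_eq hb] at h
  exact Om_inj ha hb (congrArg Fin.val (t_inj h))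

theorem R1_val : cw 0 R1 = 0 := by decide +kernel

theorem R2_val : cw 0 R2 = 0 := by decide +kernel

theorem word_one {w : List ℕ} (hw : ∀ x ∈ w, x < 22) (h0 : cw 0 w = 0) : wordEl d w = 1 := by
  apply cde_inj (word_mem_K hw) K.one_mem
  rw [cde_word hw, h0, cde_one]

/-- The orbit size. -/
noncomputable def osz (i : ℕ) : ℕ := ((Finset.range 128).image (fun k => sE k i)).card

theorem osz_check : ∀ i ∈ List.range 22, osz i = oc i := by decide +kernel

theorem q0_check : (List.range 22).all (fun i => not (Nat.beq (dv i 58) 58)) = true := by decide +kernel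

theorem x_check : allFrom (fun q => or (tb MK q) ((List.range 22).any (fun i => Nat.beq (dv i q) q)))
    (nat_lit 3510) (nat_lit 0) = true := by decide +kernel

/-! ### The commutator map -/

/-- The map `e ↦ e ψ(e)` on `K`. -/
def fHom (ψ : G0 ≃* G0) (hK : ∀ e, e ∈ K → ψ e ∈ K) : K →* K where
  toFun e := ⟨e.1 * ψ e.1, K.mul_mem e.2 (hK _ e.2)⟩
  map_one' := by
    apply Subtype.ext
    simp
  map_mul' x y := by
    apply Subtype.ext
    show (x.1 * y.1) * ψ (x.1 * y.1) = (x.1 * ψ x.1) * (y.1 * ψ y.1)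
    rw [map_mul]
    have h := K_comm (hK _ x.2) y.2
    calc x.1 * y.1 * (ψ x.1 * ψ y.1) = x.1 * (y.1 * ψ x.1) * ψ y.1 := by group
      _ = x.1 * (ψ x.1 * y.1) * ψ y.1 := by rw [← h]
      _ = _ := by group

/-- The main theorem over `T0`. -/
theorem fix_of_T0 {ψ : G0 ≃* G0} (hinv : ∀ x, ψ (ψ x) = x) (hT : ∀ x, x ∈ T0 ↔ ψ x ∈ T0) (hD : ∀ x, x ∈ D0 ↔ ψ x ∈ D0) :
    ∃ x ∈ D0, ψ x = x := by
  by_contra hno
  have hno' : ∀ x ∈ D0, ψ x ≠ x := fun x hx h => hno ⟨x, hx, h⟩
  have hex : ∀ i, ∃ j, i < 22 → j < 22 ∧ ψ (d i) = d j := by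
    intro i
    by_cases hi : i < 22
    · obtain ⟨j, hj, h⟩ := trans_of_mem ((hD _).1 (d_mem_D0 hi)) ((hT _).1 (K_le_T0 (d_mem hi)))
      exact ⟨j, fun _ => ⟨hj, h⟩⟩
    · exact ⟨0, fun h => absurd h hi⟩
  choose ω hω using hex
  have hωlt : ∀ i, i < 22 → ω i < 22 := fun i hi => (hω i hi).1
  have hψd : ∀ i, i < 22 → ψ (d i) = d (ω i) := fun i hi => (hω i hi).2
  have hωω : ∀ i, i < 22 → ω (ω i) = i := by
    intro i hi
    apply d_inj (hωlt _ (hωlt i hi)) hi
    rw [← hψd _ (hωlt i hi), ← hψd i hi, hinv]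
  have hωne : ∀ i, i < 22 → ω i ≠ i := by
    intro i hi h
    apply hno' _ (d_mem_D0 hi)
    rw [hψd i hi, h]
  have hword : ∀ w : List ℕ, (∀ x ∈ w, x < 22) → ψ (wordEl d w) = wordEl d (w.map ω) := by
    intro w hw
    induction w with
    | nil => simp
    | cons x r ih =>
      rw [List.map_cons, wordEl_cons, wordEl_cons, map_mul, ih (fun y hy => hw y (by simp [hy])), hψd x (hw x (by simp))]
  have hmaplt : ∀ w : List ℕ, (∀ x ∈ w, x < 22) → ∀ x ∈ w.map ω, x < 22 := by
    intro w hw x hx
    obtain ⟨y, hy, rfl⟩ := List.mem_map.1 hx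
    exact hωlt y (hw y hy)
  have hK : ∀ e, e ∈ K → ψ e ∈ K := by
    intro e he
    rw [eq_mk he]
    show ψ (wordEl d (mkL (cde e))) ∈ K
    rw [hword _ (mkL_lt (cde_lt he))]
    exact word_mem_K (hmaplt _ (mkL_lt (cde_lt he)))
  have hrel : ∀ w : List ℕ, (∀ x ∈ w, x < 22) → cw 0 w = 0 → cw 0 (w.map ω) = 0 := by
    intro w hw h0
    have h1 := hword w hw
    rw [word_one hw h0, map_one] at h1
    rw [← cde_word (hmaplt w hw), ← h1, cde_one]
  -- orbits
  have hstep : ∀ k i, k < 128 → i < 22 → ∃ k', k' < 128 ∧ sE k (ω i) = ω (sE k' i) := by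
    intro k i hk hi
    obtain ⟨k', hk', h⟩ := (hT _).1 (⟨k, hk, gk_pat hk⟩ : gk k ∈ T0)
    refine ⟨k', hk', ?_⟩
    apply d_inj (sE_lt hk (hωlt i hi)) (hωlt _ (sE_lt hk' hi))
    rw [← pat_conj hk (gk_pat hk) (hωlt i hi), ← hψd _ (sE_lt hk' hi), ← pat_conj hk' h hi, map_mul, map_mul, map_inv,
      hinv, hψd i hi]
  have hoszle : ∀ i, i < 22 → osz (ω i) ≤ osz i := by
    intro i hi
    unfold osz
    refine le_trans (Finset.card_le_card ?_) (Finset.card_image_le (f := ω))
    intro a ha
    obtain ⟨k, hk, rfl⟩ := Finset.mem_image.1 ha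
    obtain ⟨k', hk', h⟩ := hstep k i (Finset.mem_range.1 hk) hi
    rw [h]
    exact Finset.mem_image_of_mem _ (Finset.mem_image_of_mem _ (Finset.mem_range.2 hk'))
  have horb : ∀ i, i < 22 → oc (ω i) = oc i := by
    intro i hi
    rw [← osz_check i (List.mem_range.2 hi), ← osz_check _ (List.mem_range.2 (hωlt i hi))]
    apply le_antisymm (hoszle i hi)
    have := hoszle _ (hωlt i hi)
    rwa [hωω i hi] at this
  -- the map
  set f := fHom ψ hK with hf
  have hfv : ∀ e : K, ((f e : K) : G0) = e.1 * ψ e.1 := fun _ => rfl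
  have hcomm : ∀ x y : K, x * y = y * x := by
    intro x y
    apply Subtype.ext
    exact K_comm x.2 y.2
  have hsq : ∀ x : K, x * x = 1 := by
    intro x
    apply Subtype.ext
    have := K_sq x.2
    rwa [pow_two] at this
  have hRN : f.range ≤ f.ker := by
    rintro _ ⟨e, rfl⟩
    rw [MonoidHom.mem_ker]
    apply Subtype.ext
    rw [hfv]
    show (f e).1 * ψ (f e).1 = 1
    rw [hfv, map_mul, hinv]
    rw [K_comm (hK _ e.2) e.2]
    have := K_sq (K.mul_mem e.2 (hK _ e.2))
    rwa [pow_two] at this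
  have hcard : Nat.card f.range * Nat.card f.ker = 1024 := by
    rw [← card_K, ← Subgroup.card_mul_index f.ker, Subgroup.index_ker, mul_comm]
  -- the search
  have hSH : SH (fun c => ∃ x ∈ f.range, cde x.1 = c) ω := by
    refine ⟨hωlt, hωω, hωne, horb, ?_, ?_, ?_, ?_⟩
    · intro i hi
      refine ⟨f ⟨d i, d_mem hi⟩, ⟨_, rfl⟩, ?_⟩
      rw [hfv]
      show cde (d i * ψ (d i)) = _
      rw [hψd i hi, cde_mul (d_mem hi) (d_mem (hωlt i hi)), cde_d hi, cde_d (hωlt i hi)]
    · rintro a b ⟨x, hx, rfl⟩ ⟨y, hy, rfl⟩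
      exact ⟨x * y, f.range.mul_mem hx hy, cde_mul x.2 y.2⟩
    · exact hrel _ R1_lt R1_val
    · exact hrel _ R2_lt R2_val
  obtain ⟨S, hSnd, hSlen, hSP⟩ := go_sound hSH 12 ordL [0] [] go_ok (by decide) ordL_lt
    (fun i hi => ordL_all _ (hωlt i (ordL_lt i hi)))
    ⟨by simp, by
      intro a ha b hb
      rw [List.mem_singleton] at ha hb
      rw [ha, hb]
      simp only [List.mem_singleton]
      rfl⟩
    (by
      intro c hc
      rw [List.mem_singleton] at hc
      exact ⟨1, f.range.one_mem, by rw [hc]; exact cde_one⟩)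
    (by simp) (fun i hi => Or.inl (ordL_all i hi))
  have hR32 : 32 ≤ Nat.card f.range := by
    classical
    haveI : Fintype f.range := Fintype.ofFinite _
    rw [Nat.card_eq_fintype_card]
    have h1 : S.toFinset ⊆ (Finset.univ : Finset f.range).image (fun x => cde x.1.1) := by
      intro c hc
      obtain ⟨x, hx, hc'⟩ := hSP c (List.mem_toFinset.1 hc)
      exact Finset.mem_image.2 ⟨⟨x, hx⟩, Finset.mem_univ _, hc'⟩
    calc 32 ≤ S.length := hSlen
      _ = S.toFinset.card := (List.toFinset_card_of_nodup hSnd).symm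
      _ ≤ _ := Finset.card_le_card h1
      _ ≤ _ := Finset.card_image_le
  have hle : Nat.card f.range ≤ Nat.card f.ker := Subgroup.card_le_of_le hRN
  have hRNeq : f.range = f.ker := by
    apply Subgroup.eq_of_le_of_card_ge hRN
    nlinarith
  -- the label
  obtain ⟨q1, hq1⟩ := mem_D0.1 ((hD _).1 (t_mem q0))
  have hq0nc : ∀ i, i < 22 → φ (d i) q0 ≠ q0 := by
    intro i hi h
    have h1 := List.all_eq_true.1 q0_check i (List.mem_range.2 hi)
    have h2 := d_val i q0
    rw [h] at h2
    have h3 : ((q0 : Fin NN) : ℕ) = 58 := rfl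
    rw [h3] at h2
    rw [← h2, Nat.beq_refl] at h1
    cases h1
  have hq1m : tb MK q1 = true := by
    have h0 := allFrom_spec x_check q1 (Nat.zero_le _) (by show (q1 : ℕ) < 0 + 3510; exact q1.2)
    rw [Bool.or_eq_true] at h0
    rcases h0 with h0 | h0
    · exact h0
    · exfalso
      obtain ⟨i, hi, h⟩ := List.any_eq_true.1 h0
      have hi' := List.mem_range.1 hi
      have h1 : dv i q1 = q1 := beq_iff.1 h
      have h2 : φ (d i) q1 = q1 := Fin.ext (by rw [d_val, h1])
      have h3 : Commute (d i) (t q1) := (comm_t_iff' _ _).2 h2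
      have h4 : Commute (ψ (d (ω i))) (ψ (t q0)) := by
        rw [hψd _ (hωlt i hi'), hωω i hi', hq1]
        exact h3
      have h5 : Commute (d (ω i)) (t q0) := by
        have h6 := h4.eq
        rw [← map_mul, ← map_mul] at h6
        exact ψ.injective h6
      exact hq0nc _ (hωlt i hi') ((comm_t_iff' _ _).1 h5)
  obtain ⟨hq1c, hq1L⟩ := mask_spec (q := q1) q1.2 hq1m
  set v := mk (Cd q1) with hv
  have hvK : v ∈ K := mk_mem hq1c
  have hvq : φ v q0 = q1 := Fin.ext (by rw [mk_val hq1c, hq1L])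
  have htq1 : t q1 = v * t q0 * v⁻¹ := by rw [t_conj, hvq]
  have hψq1 : ψ (t q1) = t q0 := by rw [← hq1, hinv]
  have hvker : v * ψ v = 1 := by
    have h1 : ψ v * v * t q0 * (ψ v * v)⁻¹ = t q0 := by
      calc ψ v * v * t q0 * (ψ v * v)⁻¹ = ψ v * (v * t q0 * v⁻¹) * (ψ v)⁻¹ := by group
        _ = ψ v * ψ (t q0) * (ψ v)⁻¹ := by rw [← htq1, hq1]
        _ = ψ (v * t q0 * v⁻¹) := by rw [map_mul, map_mul, map_inv]
        _ = ψ (t q1) := by rw [← htq1]
        _ = t q0 := hψq1
    rw [t_conj] at h1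
    have h2 : φ (ψ v * v) q0 = q0 := t_inj h1
    have h3 : ψ v * v = 1 := by
      apply K_inj (K.mul_mem (hK _ hvK) hvK) K.one_mem
      rw [h2, map_one]
      rfl
    rw [K_comm hvK (hK _ hvK), h3]
  have hvN : (⟨v, hvK⟩ : K) ∈ f.ker := by
    rw [MonoidHom.mem_ker]
    apply Subtype.ext
    exact hvker
  rw [← hRNeq] at hvN
  obtain ⟨e, he⟩ := hvN
  have he' : e.1 * ψ e.1 = v := congrArg Subtype.val he
  have he1 : ψ e.1 * v = e.1 := by
    rw [← he', K_comm e.2 (hK _ e.2)]
    have := K_sq (hK _ e.2)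
    rw [pow_two] at this
    rw [← mul_assoc, this, one_mul]
  have hfix : ψ (t (φ e.1 q0)) = t (φ e.1 q0) := by
    rw [← t_conj, map_mul, map_mul, map_inv, hq1, htq1]
    calc ψ e.1 * (v * t q0 * v⁻¹) * (ψ e.1)⁻¹ = (ψ e.1 * v) * t q0 * (ψ e.1 * v)⁻¹ := by group
      _ = _ := by rw [he1]
  exact hno' _ (t_mem _) hfix

open scoped Pointwise in
/-- Every automorphism of order at most two of the explicit model fixes a transposition. -/
theorem main (ψ : G0 ≃* G0) (hinv : ∀ x, ψ (ψ x) = x) : ∃ x ∈ D0, ψ x = x := by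
  classical
  haveI : Fact (Nat.Prime 2) := ⟨Nat.prime_two⟩
  have hD : ∀ x, x ∈ D0 ↔ ψ x ∈ D0 := by
    have h := unique_class_of_iso (D := {a | ψ a ∈ D0}) ψ (fun _ => Iff.rfl) class0
    intro x
    constructor
    · intro hx
      rw [h] at hx
      exact hx
    · intro hx
      rw [h]
      exact hx
  -- a fixed Sylow subgroup
  letI : Fintype (Sylow 2 G0) := Fintype.ofFinite _
  let τ := MulAction.toPermHom (MulAut G0) (Sylow 2 G0)
  have hψ2 : (ψ : MulAut G0) ^ 2 = 1 := by
    ext x
    show ψ (ψ x) = x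
    exact hinv x
  have hσ : (τ ψ) ^ 2 ^ 1 = 1 := by
    rw [pow_one, ← map_pow, hψ2, map_one]
  have hodd : ¬ 2 ∣ Fintype.card (Sylow 2 G0) := by
    have h := card_sylow_modEq_one 2 G0
    rw [Nat.card_eq_fintype_card] at h
    intro hdvd
    have h1 := h.dvd
    have h2 : Fintype.card (Sylow 2 G0) % 2 = 1 := h
    omega
  obtain ⟨S, hS⟩ := Equiv.Perm.exists_fixed_point_of_prime (p := 2) (n := 1) hodd hσ
  have hS' : (ψ : MulAut G0) • S = S := hS
  have hSmem : ∀ y, y ∈ (S : Subgroup G0) ↔ ψ y ∈ (S : Subgroup G0) := by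
    intro y
    have h1 : ((ψ : MulAut G0) • (S : Subgroup G0)) = (S : Subgroup G0) := by
      have := congrArg (fun X : Sylow 2 G0 => (X : Subgroup G0)) hS'
      exact this
    have h2 := Subgroup.smul_mem_pointwise_smul_iff (a := (ψ : MulAut G0)) (S := (S : Subgroup G0)) (x := y)
    rw [h1] at h2
    exact h2.symm
  obtain ⟨g, hg⟩ := MulAction.exists_smul_eq G0 S T0S
  have hTmem : ∀ x, x ∈ T0 ↔ g⁻¹ * x * g ∈ (S : Subgroup G0) := by
    intro x
    have h1 : ((MulAut.conj g) • (S : Subgroup G0)) = T0 := by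
      have := congrArg (fun X : Sylow 2 G0 => (X : Subgroup G0)) hg
      rw [Sylow.coe_subgroup_smul] at this
      exact this
    rw [← h1, Subgroup.mem_pointwise_smul_iff_inv_smul_mem]
    have h2 : (MulAut.conj g)⁻¹ • x = g⁻¹ * x * g := by
      show (MulAut.conj g)⁻¹ x = _
      rw [MulAut.conj_inv_apply]
    rw [h2]
  -- the conjugate automorphism
  let ψ' : G0 ≃* G0 := (MulAut.conj g).symm.trans (ψ.trans (MulAut.conj g))
  have hψ' : ∀ x, ψ' x = g * ψ (g⁻¹ * x * g) * g⁻¹ := by
    intro x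
    show MulAut.conj g (ψ ((MulAut.conj g).symm x)) = _
    rw [MulAut.conj_apply, MulAut.conj_symm_apply]
  have hinv' : ∀ x, ψ' (ψ' x) = x := by
    intro x
    rw [hψ', hψ']
    have h1 : g⁻¹ * (g * ψ (g⁻¹ * x * g) * g⁻¹) * g = ψ (g⁻¹ * x * g) := by group
    rw [h1, hinv]
    group
  have hT' : ∀ x, x ∈ T0 ↔ ψ' x ∈ T0 := by
    intro x
    rw [hTmem, hTmem, hψ', hSmem (g⁻¹ * x * g)]
    have h1 : g⁻¹ * (g * ψ (g⁻¹ * x * g) * g⁻¹) * g = ψ (g⁻¹ * x * g) := by group
    rw [h1]
  have hconjD : ∀ (c a : G0), a ∈ D0 ↔ c * a * c⁻¹ ∈ D0 := by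
    intro c a
    constructor
    · exact D0_conj c a
    · intro h
      have := D0_conj c⁻¹ _ h
      have h1 : c⁻¹ * (c * a * c⁻¹) * c⁻¹⁻¹ = a := by group
      rwa [h1] at this
  have hD' : ∀ x, x ∈ D0 ↔ ψ' x ∈ D0 := by
    intro x
    rw [hψ', ← hconjD g]
    rw [← hD]
    have h1 := hconjD g⁻¹ x
    have h2 : g⁻¹ * x * g⁻¹⁻¹ = g⁻¹ * x * g := by group
    rwa [h2] at h1
  obtain ⟨x, hx, hfx⟩ := fix_of_T0 hinv' hT' hD'
  refine ⟨g⁻¹ * x * g, ?_, ?_⟩
  · have h1 := (hconjD g⁻¹ x).1 hx
    have h2 : g⁻¹ * x * g⁻¹⁻¹ = g⁻¹ * x * g := by group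
    rwa [h2] at h1
  · rw [hψ'] at hfx
    calc ψ (g⁻¹ * x * g) = g⁻¹ * (g * ψ (g⁻¹ * x * g) * g⁻¹) * g := by group
      _ = _ := by rw [hfx]

end Cfsg.Agent.Lib.Fischer.M22.Rows.AutFix
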